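import Cfsg.Agent.Lib.H16.O73.Orth
import Cfsg.Agent.Lib.H16.O73.Tab6
import Cfsg.Agent.Lib.H16.O73.Tab7
import Cfsg.Agent.Lib.H16.O73.Tab8
import Cfsg.Agent.Lib.H16.CoxBound
import Cfsg.Agent.S0292

/-!
The presented group is isomorphic to `PΩ₇(3)`.
-/

set_option autoImplicit false
set_option linter.style.haveILetI false
set_option linter.unusedSimpArgs false

namespace Cfsg.Agent.H16.O73

open Matrix Cfsg.Agent.Lead.Ortho Cfsg.Agent.Lead.Omega

/-- `t` is `tw` of the vector. -/
theorem t_conj (x : Gen) (w : V7) (h : Q7 w = 2) (h' : Q7 (act (t x) w) = 2) :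
    t x * tw w h * (t x)⁻¹ = tw (act (t x) w) h' := by
  have key := R_conj qf7 (t x) (a := w) (by rw [h]; exact two_ne) (by rw [h']; exact two_ne)
  rw [tw, tw, ← key, ← mul_assoc (t x), ← negO_comm]
  simp only [mul_assoc]

/-- The explicit action of a generator on vectors. -/
def rhoC (x : Gen) (w : V7) : V7 := fun i => - w i - B7 w (vec x) * vec x i

theorem act_t (x : Gen) (w : V7) : act (t x) w = rhoC x w := by
  rw [← toM_mulVec, toM_t, TT, Tm, Matrix.neg_mulVec, Rm_mulVec]
  funext i
  simp only [Pi.neg_apply, Pi.sub_apply, Pi.smul_apply, smul_eq_mul, rhoC]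
  have e : (2 : F3) = -1 := by decide
  rw [e]
  ring

/-- The code of a vector. -/
def code (w : V7) : ℕ :=
  (w (.inl ())).val + 3 * ((w (.inr (.inl 0))).val + 3 * ((w (.inr (.inl 1))).val + 3 * ((w (.inr (.inl 2))).val +
    3 * ((w (.inr (.inr 0))).val + 3 * ((w (.inr (.inr 1))).val + 3 * (w (.inr (.inr 2))).val)))))

def tbl : ℕ := 0x7b79000000738c330000008500000000003e000000328d0002800000007c0000000000470000008316000000008a890000006900008000000082a5000000002e1c0000004c9485000000310000009c700000000000008200005c795c00000000000000000095439d0000005e7d5e0000000000000000002275960001440000000000003600000000008c721200a47b0000000000008400006f3b63000000000000240000090000140000000000000000009c5f005f7c00792a000000000000000000000a6f00523a0046840000008000009e000082940d006e7b004f8d000000860000a500007200000000000000000070ab000000780000000000001b7b000000940000670000005a32000000470000007a680047840000008b0000000000009c5a0000009b000000a5670000003e00001d000000273f00962f0000005a000000000071538b0000000061170000000000008500000000003f6b930000000000009a7a52000000928c5900000000376c000000000000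062a840000000000007d000000000069837100000046953b000000000000000000000000000000840000560000376c9e00368a006085007713008c4e00435b0000000000000000000000008b00008b0000a600006300005e00008c73a400a37800937a000000000000000000000000ae000000ae73000000270000009556000000950000002769000000007616000000650000004b93000000560000006bad0000008a687c000000a6000000565f0000002e00000074660000008a00000000000000006aa5620000000000004f1e6a000000000000769b08007f9e0000000000005257850000000000007a2f370000000000002d00001f4e8d000000000000a668a60000000000009d732f000000002625002f7500085e00824a00a146009d7c009e72008d9c0095610000007c00004e00007b00007400007000004600000300006b000061000000000000000000000000000000000000000000000000000000598c0000009200000000009a000000527a000000006c37000000080000001761000000858b530000007100000000003f000000936b00000069000000718300000000842a0000007d3b950000004600000000008b844700000000000000000047687a005a9c0000000000009b7b1b00000000000094000078ae7000000000000000000067325a0000000000001d3f270067a50000000000003e00005a2f96000000000000000000000000004e8c001177005b430000008b00008d0000a600005600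00820000370000000000000000008a36009e6c0085600078a500a473007a930000005e00006300008c0000000000000000000000220000009675005e7d0000005e000000000000440b000000365c790000005c000000000000709c000000820000950000009c43000000007ba40000008300008c000000127200633b0000006f00000000000000004716830000007c800800000000898a00000000000069000085338c00000000797b0000000000007300000000003e8d32001c2e0000000000004c000000000080a584000000318594000000003a52006f140084460000000000000000000000009e0000800000820000000000000000000000080000240000147c5f005f9c002a79000000a40000860000727b6e000c94008d4f0000000000000000000000000085570000007a0000009e7f00000052000000372f0000002d00004f0000006a1e0000006a00000062a500000076000000049d00a668000000a60000008d4e0000001f0000002f730000009b000000934b00000000000056117600000000000065ae6b0000000000008a0000000000275695000000000000ac73ad0000000000009469270000002e5f56000000000000a67c680000000000008d66740000000000007000007400004600004e00007c00007b00006b00000800006146a1004a82007c9d00752f002526005e07009c8a00729e0061950000000000000000000000000000000000000000000000000000000000008d0000001f6b00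000000814a0000007b8862000000370000000000050000000f57000000009a3f00000060927e000000580000000000840000000a8b00000000780e0000003f82930000007300000000000000009a9c51004f660000000000001e00009d66940000000000000000007aa57b0083630000000000006400008d3994000000000000000000817c3f0073830000000000004f00009463a3000000006671004785008c130000009d00007b00008e000000000000000000838800839c00ae6a0000008400005600005a00000000000000000086920059a5008c7d0000009400005200008700000000000000000000000063830000006400007a0000007ba30095390000008d000000000000664f0000001e00009a000000519c0094660000009d00000000000083730000004f0000810000003f7c00a363000000940000003f9a000000000000600000000000085717000000587e92000000004a810000000000007b00000000008d6b1f000000376288000000000a780000000000003f0000000000848b0b0000007393820000000000005600008400005a9c83008883006aab0000000000000000000000007b00009d00008e854700716600158c00000000000000000000000052000094000087a559009286007d8c000000000000000000007326000000570000006bae0000007300000014940000006e000000540a000000260000006e9d0000004a0000007495000000720000007e1e0000006d000000418c0000004e00000062a60000009300000000004a9d6e00000000000026005400000000000072957400000000000073ad6b0000000000005726730000000000006e950c0000000000004e8c410000000000006d1e7e00000000000093a66200000000000000000000000000000000000000000000000000000000000000000000000000000000000000000000000000000000000000000000000000000000000000000000000000000000000000000000000000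

def entry (c : ℕ) : ℕ := Nat.land (Nat.shiftRight tbl (8 * c)) 255

def genOf (n : ℕ) : Gen :=
  match n with
  | 0 => .b
  | 1 => .c
  | 2 => .d
  | 3 => .e
  | 4 => .f
  | 5 => .g
  | 6 => .h
  | _ => .i

/-- The check at one vector. -/
def okAt (w : V7) : Bool :=
  if Q7 w = 2 then
    (if entry (code w) / 8 = 0 then decide (w = vec (genOf (entry (code w) % 8)))
     else decide (entry (code (rhoC (genOf (entry (code w) % 8)) w)) / 8 < entry (code w) / 8))
  else true

theorem ok_all : ∀ a0 a1 a2 a3 a4 a5 a6 : F3, okAt (mkV a0 a1 a2 a3 a4 a5 a6) = true := by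
  decide +kernel

theorem ok_vec (w : V7) : okAt w = true := by
  rw [eq_mkV w]
  exact ok_all _ _ _ _ _ _ _

/-- The image in the orthogonal group. -/
noncomputable abbrev T0 : Subgroup O7 := th0.range

theorem t_mem_T0 (x : Gen) : t x ∈ T0 := ⟨PresentedGroup.of x, th0_of x⟩

theorem tw_mem_aux : ∀ (n : ℕ) (w : V7) (h : Q7 w = 2), entry (code w) / 8 = n → tw w h ∈ T0 := by
  intro n
  induction n using Nat.strong_induction_on with
  | _ n ih =>
    intro w h hn
    have hok := ok_vec w
    rw [okAt, if_pos h] at hok
    by_cases h0 : entry (code w) / 8 = 0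
    · rw [if_pos h0] at hok
      have e := of_decide_eq_true hok
      have : tw w h = t (genOf (entry (code w) % 8)) := by
        unfold t
        congr 1
      rw [this]
      exact t_mem_T0 _
    · rw [if_neg h0] at hok
      have hlt := of_decide_eq_true hok
      obtain ⟨x, hx⟩ : ∃ x, x = genOf (entry (code w) % 8) := ⟨_, rfl⟩
      rw [← hx] at hlt
      have hQ' : Q7 (act (t x) w) = 2 := (Q_act (t x) w).trans h
      have hw' : act (t x) w = rhoC x w := act_t x w
      have h1 : tw (act (t x) w) hQ' ∈ T0 := by
        refine ih (entry (code (rhoC x w)) / 8) (by omega) _ _ ?_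
        rw [hw']
      have hQ'' : Q7 (act (t x) (act (t x) w)) = 2 := (Q_act (t x) _).trans hQ'
      have h2 := t_conj x _ hQ' hQ''
      have h3 : act (t x) (act (t x) w) = w := by
        rw [← act_mul, t_invol, act_one]
      have h4 : tw (act (t x) (act (t x) w)) hQ'' = tw w h := by
        unfold tw
        congr 2
      rw [← h4, ← h2]
      exact T0.mul_mem (T0.mul_mem (t_mem_T0 x) h1) (T0.inv_mem (t_mem_T0 x))

theorem tw_mem (w : V7) (h : Q7 w = 2) : tw w h ∈ T0 := tw_mem_aux _ w h rfl

theorem T0_conj (g : O7) (p : P) : g * th0 p * g⁻¹ ∈ T0 := by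
  have hp : p ∈ (⊤ : Subgroup P) := trivial
  rw [← PresentedGroup.closure_range_of] at hp
  induction hp using Subgroup.closure_induction with
  | mem x hx =>
    obtain ⟨x, rfl⟩ := hx
    rw [th0_of]
    have hQ : Q7 (act g (vec x)) = 2 := (Q_act g (vec x)).trans (vec_Q x)
    have : g * t x * g⁻¹ = tw (act g (vec x)) hQ := by
      have key := R_conj qf7 g (a := vec x) (by rw [vec_Q]; exact two_ne) (by rw [hQ]; exact two_ne)
      rw [t, tw, tw, ← key, ← mul_assoc g, ← negO_comm]
      simp only [mul_assoc]
    rw [this]
    exact tw_mem _ _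
  | one => simp [T0.one_mem]
  | mul x y _ _ hx hy =>
    rw [map_mul]
    have : g * (th0 x * th0 y) * g⁻¹ = (g * th0 x * g⁻¹) * (g * th0 y * g⁻¹) := by group
    rw [this]
    exact T0.mul_mem hx hy
  | inv x _ hx =>
    rw [map_inv]
    have : g * (th0 x)⁻¹ * g⁻¹ = (g * th0 x * g⁻¹)⁻¹ := by group
    rw [this]
    exact T0.inv_mem hx

theorem th0_mem (p : P) : th0 p ∈ Om7 := by
  have hp : p ∈ (⊤ : Subgroup P) := trivial
  rw [← PresentedGroup.closure_range_of] at hp
  induction hp using Subgroup.closure_induction with
  | mem x hx =>
    obtain ⟨x, rfl⟩ := hx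
    rw [th0_of]
    exact t_mem x
  | one => simp [Om7.one_mem]
  | mul x y _ _ hx hy =>
    rw [map_mul]
    exact Om7.mul_mem hx hy
  | inv x _ hx =>
    rw [map_inv]
    exact Om7.inv_mem hx

/-- The map to `Ω`. -/
noncomputable def th1 : P →* Om7 := th0.codRestrict Om7 th0_mem

abbrev S7 := Cfsg.POmega F3 Q7

/-- The map to `PΩ`. -/
noncomputable def th : P →* S7 := (QuotientGroup.mk' (Subgroup.center Om7)).comp th1

instance simpleS7 : IsSimpleGroup S7 :=
  Cfsg.Agent.Lead.Omega.pomega_odd_simple (by simp [ZMod.card]; decide) 3 (le_refl _)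

theorem TT_noncomm : TT .d * TT .c ≠ TT .c * TT .d := by decide +kernel

theorem th_surj : Function.Surjective th := by
  have hN : th.range.Normal := by
    refine ⟨?_⟩
    rintro _ ⟨p, rfl⟩ s
    obtain ⟨w, rfl⟩ := QuotientGroup.mk_surjective s
    obtain ⟨p', hp'⟩ := T0_conj w.1 p
    refine ⟨p', ?_⟩
    have : th1 p' = w * th1 p * w⁻¹ := Subtype.ext hp'
    simp only [th, MonoidHom.comp_apply, QuotientGroup.mk'_apply, this]
    rfl
  rcases IsSimpleGroup.eq_bot_or_eq_top_of_normal _ hN with h | h
  · exfalso
    have h1 : ∀ p, th1 p ∈ Subgroup.center Om7 := by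
      intro p
      have : th p ∈ th.range := ⟨p, rfl⟩
      rw [h, Subgroup.mem_bot] at this
      exact (QuotientGroup.eq_one_iff _).1 this
    have h2 := (Subgroup.mem_center_iff.1 (h1 (PresentedGroup.of .d))) (th1 (PresentedGroup.of .c))
    have h3 := congrArg (fun z : Om7 => toM z.1) h2
    simp only [th1, Subgroup.coe_mul, MonoidHom.codRestrict_apply, th0_of, map_mul, toM_t] at h3
    exact TT_noncomm h3.symm
  · exact MonoidHom.range_eq_top.1 h

/-! ### The bound -/

open Cfsg.Agent.H16.CosetEnum Cfsg.Agent.H16.CoxBound

/-- The word `b * b` generates the trivial subgroup. -/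
theorem finite_A6' : Finite A6.P ∧ Nat.card A6.P = 5040 := by
  have h := Cfsg.Agent.H16.CE.S1686c.theIndex
  have h2 : subH Cfsg.Agent.H16.CE.S1686c.R Cfsg.Agent.H16.CE.S1686c.S = ⊥ := by
    rw [eq_bot_iff]
    show Subgroup.map _ _ ≤ _
    rw [Subgroup.map_le_iff_le_comap, Subgroup.closure_le]
    intro s hs
    have hs' : s = FreeGroup.of A6.Gen.b * FreeGroup.of A6.Gen.b := hs
    subst hs'
    simp only [SetLike.mem_coe, Subgroup.mem_comap, Subgroup.mem_bot]
    apply PresentedGroup.one_of_mem
    left
    refine ⟨.b, by decide, .b, by decide, ?_⟩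
    rw [show Cfsg.Spor.coxLabel A6.edges A6.Gen.b A6.Gen.b = 1 from rfl, pow_one]
  rw [h2, Subgroup.index_bot] at h
  exact ⟨Nat.finite_of_card_ne_zero (by rw [h]; norm_num), h⟩

instance finite_A6 : Finite A6.P := finite_A6'.1

/-- `A₆` inside `E₇`. -/
def a6map : A6.Gen → E7.Gen
  | .b => .b
  | .c => .c
  | .d => .d
  | .e => .e
  | .f => .f
  | .g => .g

theorem a6_rel : ∀ r ∈ Cfsg.Spor.coxRelators A6.edges ∪ {r | r ∈ A6.extra},
    FreeGroup.lift (fun x => (PresentedGroup.of (a6map x) : E7.P)) r = 1 := by
  rintro r (hr | hr)
  · exact cox_lift A6.edges E7.edges Set.subset_union_left a6map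
      (by intro x _; cases x <;> decide)
      (by intro x y; cases x <;> cases y <;> rfl) r hr
  · exact absurd hr (by simp [A6.extra])

noncomputable def a6hom : A6.P →* E7.P := PresentedGroup.toGroup a6_rel

theorem E7_bound : Finite E7.P ∧ Nat.card E7.P ≤ 288 * 5040 := by
  have hle : subH Cfsg.Agent.H16.CE.S1686b.R Cfsg.Agent.H16.CE.S1686b.S ≤ a6hom.range := by
    show Subgroup.map _ _ ≤ _
    rw [Subgroup.map_le_iff_le_comap, Subgroup.closure_le]
    intro s hs
    have hs' : s = FreeGroup.of E7.Gen.b ∨ s = FreeGroup.of E7.Gen.c ∨ s = FreeGroup.of E7.Gen.d ∨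
        s = FreeGroup.of E7.Gen.e ∨ s = FreeGroup.of E7.Gen.f ∨ s = FreeGroup.of E7.Gen.g := by
      simpa [Cfsg.Agent.H16.CE.S1686b.S] using hs
    rcases hs' with rfl | rfl | rfl | rfl | rfl | rfl
    · exact ⟨PresentedGroup.of .b, PresentedGroup.toGroup.of a6_rel⟩
    · exact ⟨PresentedGroup.of .c, PresentedGroup.toGroup.of a6_rel⟩
    · exact ⟨PresentedGroup.of .d, PresentedGroup.toGroup.of a6_rel⟩
    · exact ⟨PresentedGroup.of .e, PresentedGroup.toGroup.of a6_rel⟩
    · exact ⟨PresentedGroup.of .f, PresentedGroup.toGroup.of a6_rel⟩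
    · exact ⟨PresentedGroup.of .g, PresentedGroup.toGroup.of a6_rel⟩
  obtain ⟨hf, hc⟩ := card_le_of_le_range a6hom hle
  rw [finite_A6'.2] at hc
  exact finite_card_le Cfsg.Agent.H16.CE.S1686b.theIndex (by norm_num) hf hc

instance finite_E7 : Finite E7.P := E7_bound.1

/-- `E₇` inside the whole. -/
def e7map : E7.Gen → Gen
  | .b => .b
  | .c => .c
  | .d => .d
  | .e => .e
  | .f => .f
  | .g => .g
  | .h => .h

theorem e7_rel : ∀ r ∈ Cfsg.Spor.coxRelators E7.edges ∪ {r | r ∈ E7.extra},
    FreeGroup.lift (fun x => (PresentedGroup.of (e7map x) : P)) r = 1 := by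
  rintro r (hr | hr)
  · exact cox_lift E7.edges edges Set.subset_union_left e7map
      (by intro x _; cases x <;> decide)
      (by intro x y; cases x <;> cases y <;> rfl) r hr
  · have hr' : r = (E7.b * E7.c * E7.d * E7.e * E7.f * E7.g * E7.h) ^ 9 := by
      simpa [E7.extra] using hr
    subst hr'
    simp only [map_pow, map_mul, FreeGroup.lift_apply_of, e7map]
    exact PresentedGroup.one_of_mem (rels := Cfsg.Spor.coxRelators edges ∪ {r | r ∈ extra})
      (x := (b * c * d * e * f * g * h) ^ 9) (Or.inr (by simp [extra]))

noncomputable def e7hom : E7.P →* P := PresentedGroup.toGroup e7_rel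

theorem P_bound : Finite P ∧ Nat.card P ≤ 3159 * (288 * 5040) := by
  have hle : subH Cfsg.Agent.H16.CE.S1686.R Cfsg.Agent.H16.CE.S1686.S ≤ e7hom.range := by
    show Subgroup.map _ _ ≤ _
    rw [Subgroup.map_le_iff_le_comap, Subgroup.closure_le]
    intro s hs
    have hs' : s = FreeGroup.of Gen.b ∨ s = FreeGroup.of Gen.c ∨ s = FreeGroup.of Gen.d ∨
        s = FreeGroup.of Gen.e ∨ s = FreeGroup.of Gen.f ∨ s = FreeGroup.of Gen.g ∨ s = FreeGroup.of Gen.h := by
      simpa [Cfsg.Agent.H16.CE.S1686.S] using hs
    rcases hs' with rfl | rfl | rfl | rfl | rfl | rfl | rfl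
    · exact ⟨PresentedGroup.of .b, PresentedGroup.toGroup.of e7_rel⟩
    · exact ⟨PresentedGroup.of .c, PresentedGroup.toGroup.of e7_rel⟩
    · exact ⟨PresentedGroup.of .d, PresentedGroup.toGroup.of e7_rel⟩
    · exact ⟨PresentedGroup.of .e, PresentedGroup.toGroup.of e7_rel⟩
    · exact ⟨PresentedGroup.of .f, PresentedGroup.toGroup.of e7_rel⟩
    · exact ⟨PresentedGroup.of .g, PresentedGroup.toGroup.of e7_rel⟩
    · exact ⟨PresentedGroup.of .h, PresentedGroup.toGroup.of e7_rel⟩
  obtain ⟨hf, hc⟩ := card_le_of_le_range e7hom hle
  exact finite_card_le Cfsg.Agent.H16.CE.S1686.theIndex (by norm_num) hf (hc.trans E7_bound.2)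

instance finite_P : Finite P := P_bound.1

theorem card_S7 : Nat.card S7 = 4585351680 := by
  have h := Cfsg.Agent.S0292.result (F := F3) (q := 3) (by simp [ZMod.card]) (by decide) 3 (le_refl _)
  generalize Nat.card (Cfsg.POmega F3 (Cfsg.quadFormOdd 3 F3)) = n at h ⊢
  simp only [Finset.prod_range_succ, Finset.prod_range_zero] at h
  norm_num at h
  omega

theorem th_bij : Function.Bijective th :=
  Function.Surjective.bijective_of_nat_card_le th_surj (by
    rw [card_S7]
    exact P_bound.2.trans (by norm_num))

/-- `P ≃ PΩ₇(3)`. -/
noncomputable def thEquiv : P ≃* S7 := MulEquiv.ofBijective th th_bij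

theorem simple_P : IsSimpleGroup P := thEquiv.isSimpleGroup

end Cfsg.Agent.H16.O73
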